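import Mathlib

/-!
Vectors avoiding a few hyperplanes, and vectors that are not eigenvectors.
-/

set_option autoImplicit false

namespace Cfsg.Agent.Recog.RegUni

open Module

variable {K : Type*} [Field K] {V : Type*} [AddCommGroup V] [Module K V]

/-- At most as many hyperplanes as scalars do not cover the space. -/
theorem avoid {ι : Type*} [DecidableEq ι] (T : Finset K) (s : Finset ι) (f : ι → V →ₗ[K] K)
    (hT : s.card ≤ T.card) (hf : ∀ i ∈ s, f i ≠ 0) : ∃ v, ∀ i ∈ s, f i v ≠ 0 := by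
  classical
  induction s using Finset.induction_on with
  | empty => exact ⟨0, by simp⟩
  | insert i s hi ih =>
    rw [Finset.card_insert_of_notMem hi] at hT
    obtain ⟨v, hv⟩ := ih (by omega) (fun j hj => hf j (Finset.mem_insert_of_mem hj))
    obtain ⟨u, hu⟩ : ∃ u, f i u ≠ 0 := by
      by_contra h; push Not at h; exact hf i (Finset.mem_insert_self i s) (LinearMap.ext h)
    by_cases h0 : f i v = 0
    swap
    · exact ⟨v, fun j hj => (Finset.mem_insert.1 hj).elim (fun e => e ▸ h0) (hv j)⟩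
    by_cases hall : ∀ j ∈ s, f j u ≠ 0
    · exact ⟨u, fun j hj => (Finset.mem_insert.1 hj).elim (fun e => e ▸ hu) (hall j)⟩
    push Not at hall
    obtain ⟨j₀, hj₀, hj₀u⟩ := hall
    set bad : Finset K := insert 0 ((s.erase j₀).image fun j => -(f j v) / f j u) with hbad
    have hcard : bad.card < T.card := by
      have h1 := Finset.card_insert_le (0 : K) ((s.erase j₀).image fun j => -(f j v) / f j u)
      have h2 := Finset.card_image_le (s := s.erase j₀) (f := fun j => -(f j v) / f j u)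
      rw [Finset.card_erase_of_mem hj₀] at h2
      have h3 : 0 < s.card := Finset.card_pos.2 ⟨j₀, hj₀⟩
      rw [hbad]
      omega
    obtain ⟨t, htT, ht⟩ := Finset.exists_mem_notMem_of_card_lt_card hcard
    refine ⟨v + t • u, fun j hj => ?_⟩
    rw [map_add, map_smul, smul_eq_mul]
    rcases Finset.mem_insert.1 hj with rfl | hj
    · rw [h0, zero_add]
      exact mul_ne_zero (fun h => ht (by rw [h, hbad]; exact Finset.mem_insert_self _ _)) hu
    · by_cases hju : f j u = 0
      · rw [hju, mul_zero, add_zero]; exact hv j hj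
      · intro h
        refine ht (Finset.mem_insert_of_mem (Finset.mem_image.2 ⟨j, Finset.mem_erase.2 ⟨?_, hj⟩, ?_⟩))
        · rintro rfl; exact hju hj₀u
        · field_simp; linear_combination -h

theorem eigen_unique {A : Module.End K V} {v : V} (hv : v ≠ 0) {a b : K} (ha : A v = a • v) (hb : A v = b • v) :
    a = b := smul_left_injective K hv (ha.symm.trans hb)

/-- Combinations of eigenvectors with different values are not eigenvectors. -/
theorem not_eigen_pair {A : Module.End K V} {v₁ v₂ : V} {a b : K} (hab : a ≠ b) (h1 : v₁ ≠ 0) (h2 : v₂ ≠ 0)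
    (ha : A v₁ = a • v₁) (hb : A v₂ = b • v₂) : ∀ l : K, A (v₁ + v₂) ≠ l • (v₁ + v₂) := by
  intro l h
  rw [map_add, ha, hb, smul_add] at h
  have hli : LinearIndependent K ![v₁, v₂] := by
    rw [LinearIndependent.pair_iff]
    intro x y hxy
    have h3 := congrArg A hxy
    rw [map_add, map_smul, map_smul, ha, hb, map_zero] at h3
    have h4 : (y * (b - a)) • v₂ = 0 := by
      linear_combination (norm := module) h3 - a • hxy
    have hy : y = 0 := (mul_eq_zero.1 ((smul_eq_zero.1 h4).resolve_right h2)).resolve_right (sub_ne_zero.2 hab.symm)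
    rw [hy, zero_smul, add_zero] at hxy
    exact ⟨(smul_eq_zero.1 hxy).resolve_right h1, hy⟩
  have h5 : (a - l) • v₁ + (b - l) • v₂ = 0 := by
    linear_combination (norm := module) h
  obtain ⟨e1, e2⟩ := LinearIndependent.pair_iff.1 hli _ _ h5
  exact hab (by linear_combination e1 - e2)

/-- A vector off two (in dimension two) or three hyperplanes which is not an eigenvector. -/
theorem exists_not_eigen [FiniteDimensional K V] (T : Finset K) (hT : 4 ≤ T.card) (A : Module.End K V)
    (hA : ¬ ∃ a : K, A = a • 1) (hk : 2 ≤ finrank K V) (f g h : V →ₗ[K] K) (hf : f ≠ 0) (hg : g ≠ 0) (hh : h ≠ 0)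
    (hk2 : finrank K V = 2 → h = f) :
    ∃ v, f v ≠ 0 ∧ g v ≠ 0 ∧ h v ≠ 0 ∧ ∀ l : K, A v ≠ l • v := by
  classical
  by_contra hcon
  push Not at hcon
  -- the good vectors
  let F3 : Fin 3 → V →ₗ[K] K := ![f, g, h]
  have hF : ∀ i ∈ (Finset.univ : Finset (Fin 3)), F3 i ≠ 0 := fun i _ => by fin_cases i <;> assumption
  obtain ⟨v₁, hv₁⟩ := avoid T Finset.univ F3 (by simp; omega) hF
  have hgood : ∀ v, (∀ i, F3 i v ≠ 0) → f v ≠ 0 ∧ g v ≠ 0 ∧ h v ≠ 0 := fun v hv => ⟨hv 0, hv 1, hv 2⟩
  obtain ⟨a, ha⟩ := hcon v₁ (hgood v₁ fun i => hv₁ i (Finset.mem_univ i)).1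
    (hgood v₁ fun i => hv₁ i (Finset.mem_univ i)).2.1 (hgood v₁ fun i => hv₁ i (Finset.mem_univ i)).2.2
  have hv₁0 : v₁ ≠ 0 := fun h0 => hv₁ 0 (Finset.mem_univ _) (by rw [h0, map_zero])
  -- a second one with a different eigenvalue
  obtain ⟨v₂, hv₂, b, hb, hab⟩ : ∃ v, (∀ i, F3 i v ≠ 0) ∧ ∃ b, A v = b • v ∧ a ≠ b := by
    by_contra hsame
    push Not at hsame
    have hne : A - a • 1 ≠ 0 := fun h0 => hA ⟨a, sub_eq_zero.1 h0⟩
    obtain ⟨x, hx⟩ : ∃ x, (A - a • 1) x ≠ 0 := by
      by_contra h0; push Not at h0; exact hne (LinearMap.ext h0)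
    obtain ⟨φ, hφ, -⟩ := Submodule.exists_dual_map_eq_bot_of_notMem (p := (⊥ : Submodule K V)) (mt (Submodule.mem_bot K).1 hx) inferInstance
    obtain ⟨v, hv⟩ := avoid T Finset.univ (Fin.cons (φ.comp (A - a • 1)) F3) (by simp; omega) (fun i _ => by
      refine Fin.cases ?_ (fun j => ?_) i
      · rw [Fin.cons_zero]
        exact fun h0 => hφ (LinearMap.congr_fun h0 x)
      · rw [Fin.cons_succ]; exact hF j (Finset.mem_univ j))
    have hv' : ∀ i, F3 i v ≠ 0 := fun i => by
      have := hv i.succ (Finset.mem_univ _); rwa [Fin.cons_succ] at this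
    obtain ⟨b, hb⟩ := hcon v (hgood v hv').1 (hgood v hv').2.1 (hgood v hv').2.2
    have hba := hsame v hv' b hb
    apply hv 0 (Finset.mem_univ _)
    rw [Fin.cons_zero, LinearMap.comp_apply, LinearMap.sub_apply, LinearMap.smul_apply, Module.End.one_apply, hb, hba,
      sub_self, map_zero]
  have hv₂0 : v₂ ≠ 0 := fun h0 => hv₂ 0 (by rw [h0, map_zero])
  by_cases hk3 : finrank K V = 2
  · -- the line through `v₁` and `v₂`
    have hfh := hk2 hk3
    obtain ⟨t, -, ht⟩ := Finset.exists_mem_notMem_of_card_lt_card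
      (s := ({0, -(f v₁) / f v₂, -(g v₁) / g v₂} : Finset K)) (t := T)
      (lt_of_lt_of_le (Nat.lt_succ_of_le (Finset.card_le_three)) hT)
    simp only [Finset.mem_insert, Finset.mem_singleton, not_or] at ht
    obtain ⟨ht0, ht1, ht2⟩ := ht
    have e1 : f (v₁ + t • v₂) ≠ 0 := fun h0 => ht1 (by
      have h2 := hv₂ 0
      rw [map_add, map_smul, smul_eq_mul] at h0
      simp only [F3, Matrix.cons_val_zero] at h2
      field_simp; linear_combination h0)
    have e2 : g (v₁ + t • v₂) ≠ 0 := fun h0 => ht2 (by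
      have h2 := hv₂ 1
      rw [map_add, map_smul, smul_eq_mul] at h0
      simp only [F3, Matrix.cons_val_one, Matrix.cons_val_zero] at h2
      field_simp; linear_combination h0)
    obtain ⟨l, hl⟩ := hcon (v₁ + t • v₂) e1 e2 (hfh ▸ e1)
    exact not_eigen_pair hab hv₁0 (smul_ne_zero ht0 hv₂0) ha (by rw [map_smul, hb, smul_comm]) l hl
  · -- a third direction
    have hP : Submodule.span K ({v₁, v₂} : Set V) ≠ ⊤ := fun h0 => by
      have h1 := finrank_span_le_card (R := K) ({v₁, v₂} : Set V)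
      rw [h0, finrank_top] at h1
      have h2 : ({v₁, v₂} : Set V).toFinset.card ≤ 2 := by simp [Finset.card_le_two]
      omega
    obtain ⟨x, -, hx⟩ := SetLike.exists_of_lt (lt_top_iff_ne_top.2 hP)
    obtain ⟨φ, hφx, hφ⟩ := Submodule.exists_dual_map_eq_bot_of_notMem hx inferInstance
    obtain ⟨v₃, hv₃⟩ := avoid T Finset.univ (Fin.cons φ F3) (by simp; omega) (fun i _ => by
      refine Fin.cases ?_ (fun j => ?_) i
      · rw [Fin.cons_zero]; exact fun h0 => hφx (LinearMap.congr_fun h0 x)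
      · rw [Fin.cons_succ]; exact hF j (Finset.mem_univ j))
    have hv₃' : ∀ i, F3 i v₃ ≠ 0 := fun i => by
      have := hv₃ i.succ (Finset.mem_univ _); rwa [Fin.cons_succ] at this
    obtain ⟨c, hc⟩ := hcon v₃ (hgood v₃ hv₃').1 (hgood v₃ hv₃').2.1 (hgood v₃ hv₃').2.2
    have hmem : ∀ y ∈ Submodule.span K ({v₁, v₂} : Set V), φ y = 0 := fun y hy =>
      (Submodule.mem_bot K).1 (hφ ▸ Submodule.mem_map_of_mem hy)
    have hout : ∀ (s : K) (y : V), y ∈ Submodule.span K ({v₁, v₂} : Set V) → y + s • v₃ = 0 → s = 0 := by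
      intro s y hy h0
      have h1 := congrArg φ h0
      rw [map_add, map_smul, hmem y hy, zero_add, map_zero, smul_eq_mul] at h1
      exact (mul_eq_zero.1 h1).resolve_right (by simpa using hv₃ 0 (Finset.mem_univ _))
    obtain ⟨t, -, ht⟩ := Finset.exists_mem_notMem_of_card_lt_card
      (s := (Finset.univ : Finset (Fin 3)).image fun i => -(F3 i (v₁ + v₂)) / F3 i v₃) (t := T)
      (lt_of_le_of_lt Finset.card_image_le (by simp; omega))
    have e : ∀ i, F3 i (v₁ + v₂ + t • v₃) ≠ 0 := fun i h0 => ht (Finset.mem_image.2 ⟨i, Finset.mem_univ i, by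
      rw [map_add, map_smul, smul_eq_mul] at h0
      rw [div_eq_iff (hv₃' i)]; linear_combination -h0⟩)
    obtain ⟨l, hl⟩ := hcon _ (hgood _ e).1 (hgood _ e).2.1 (hgood _ e).2.2
    rw [map_add, map_add, map_smul, ha, hb, hc] at hl
    have h6 : ((a - l) • v₁ + (b - l) • v₂) + (t * (c - l)) • v₃ = 0 := by
      linear_combination (norm := module) hl
    have hcl := hout _ _ (Submodule.add_mem _ (Submodule.smul_mem _ _ (Submodule.subset_span (by simp)))
      (Submodule.smul_mem _ _ (Submodule.subset_span (by simp)))) h6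
    rw [hcl, zero_smul, add_zero] at h6
    refine not_eigen_pair hab hv₁0 hv₂0 ha hb l ?_
    rw [map_add, ha, hb]
    linear_combination (norm := module) h6

end Cfsg.Agent.Recog.RegUni
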