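import Cfsg.Agent.Lib.Recog.RegUnipotent.Factor

/-!
Regular unitriangular matrices are conjugate to the regular unipotent Jordan block; the product theorem.
-/

set_option autoImplicit false

namespace Cfsg.Agent.Recog.RegUni

open Module Matrix

variable {K : Type*} [Field K] {k : ℕ}

/-- The regular unipotent Jordan block. -/
def jor (K : Type*) [Field K] (k : ℕ) : Matrix (Fin (k + 1)) (Fin (k + 1)) K :=
  Matrix.of fun i j => if i = j then 1 else if j.val = i.val + 1 then 1 else 0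

theorem jor_mul (P : Matrix (Fin (k + 1)) (Fin (k + 1)) K) (i : Fin (k + 1)) :
    (P * jor K k) i 0 = P i 0 ∧ ∀ j : Fin k, (P * jor K k) i j.succ = P i j.succ + P i j.castSucc := by
  constructor
  · rw [Matrix.mul_apply, Finset.sum_eq_single 0]
    · simp [jor]
    · intro l _ hl
      simp [jor, hl]
    · simp
  · intro j
    have hne : j.castSucc ≠ j.succ := fun h => by simpa [Fin.ext_iff] using h
    rw [Matrix.mul_apply, Fintype.sum_eq_add j.succ j.castSucc hne.symm]
    · simp [jor, Fin.ext_iff]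
    · rintro l ⟨h1, h2⟩
      have : l.val ≠ j.val := fun h => h2 (Fin.ext h)
      have h1' : l.val ≠ j.val + 1 := fun h => h1 (Fin.ext (by rw [Fin.val_succ]; exact h))
      simp [jor, Fin.ext_iff, h1', Ne.symm this]

theorem low_pow {L : Matrix (Fin (k + 1)) (Fin (k + 1)) K} (hL : LowReg L) :
    ∀ m : ℕ, (∀ i : Fin (k + 1), i.val < m → ((L - 1) ^ m) i 0 = 0) ∧
      ∀ i : Fin (k + 1), i.val = m → ((L - 1) ^ m) i 0 ≠ 0 := by
  intro m
  induction m with
  | zero => exact ⟨fun i h => absurd h (Nat.not_lt_zero _), fun i h => by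
      rw [show i = 0 from Fin.ext h, pow_zero, Matrix.one_apply_eq]; exact one_ne_zero⟩
  | succ m ih =>
    have hN : ∀ i l : Fin (k + 1), i ≤ l → (L - 1) i l = 0 := by
      intro i l h
      rcases eq_or_lt_of_le h with rfl | h
      · simp [hL.diag i]
      · simp [hL.zero i l h, h.ne]
    refine ⟨fun i hi => ?_, fun i hi => ?_⟩
    · rw [pow_succ', Matrix.mul_apply]
      refine Finset.sum_eq_zero fun l _ => ?_
      rcases le_or_gt i l with h | h
      · rw [hN i l h, zero_mul]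
      · rw [ih.1 l (by have : l.val < i.val := h; omega), mul_zero]
    · obtain ⟨i, rfl⟩ := Fin.exists_succ_eq.2 (show i ≠ 0 from fun h => by simp [h] at hi)
      rw [pow_succ', Matrix.mul_apply, Finset.sum_eq_single i.castSucc]
      · refine mul_ne_zero ?_ (ih.2 _ (by simpa using hi))
        rw [Matrix.sub_apply, Matrix.one_apply_ne (fun h => by simpa [Fin.ext_iff] using h), sub_zero]
        exact hL.sub i
      · intro l _ hl
        rcases le_or_gt i.succ l with h | h
        · rw [hN _ l h, zero_mul]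
        · have h1 : l.val < i.succ.val := h
          have h2 : l.val ≠ i.val := fun e => hl (Fin.ext e)
          simp only [Fin.val_succ] at hi h1
          rw [ih.1 l (by omega), mul_zero]
      · simp

theorem lower_conj {L : Matrix (Fin (k + 1)) (Fin (k + 1)) K} (hL : LowReg L) :
    ∃ P : Matrix (Fin (k + 1)) (Fin (k + 1)) K, IsUnit P.det ∧ L * P = P * jor K k := by
  classical
  set N := L - 1 with hN
  obtain ⟨P, hP⟩ : ∃ P : Matrix (Fin (k + 1)) (Fin (k + 1)) K, ∀ i j, P i j = (N ^ (k - j.val)) i 0 :=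
    ⟨Matrix.of fun i j => (N ^ (k - j.val)) i 0, fun _ _ => rfl⟩
  refine ⟨P, ?_, ?_⟩
  · rw [isUnit_iff_ne_zero]
    intro h0
    have h1 : (P.submatrix id Fin.revPerm).det = 0 := by rw [Matrix.det_permute', h0, mul_zero]
    rw [Matrix.det_of_lowerTriangular] at h1
    · obtain ⟨i, -, hi⟩ := Finset.prod_eq_zero_iff.1 h1
      rw [Matrix.submatrix_apply, id, Fin.revPerm_apply, hP, hN] at hi
      refine (low_pow hL _).2 i ?_ hi
      rw [Fin.val_rev]; have := i.isLt; omega
    · intro i j hij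
      have hij' : i.val < j.val := hij
      rw [Matrix.submatrix_apply, id, Fin.revPerm_apply, hP, hN]
      refine (low_pow hL _).1 i ?_
      rw [Fin.val_rev]; have := j.isLt; omega
  · have e : L * P = P + N * P := by rw [hN, Matrix.sub_mul, Matrix.one_mul]; abel
    have hNP : ∀ i j, (N * P) i j = (N ^ (k - j.val + 1)) i 0 := fun i j => by
      rw [pow_succ', Matrix.mul_apply, Matrix.mul_apply]; simp [hP]
    ext i j
    rw [e, Matrix.add_apply, hNP]
    refine Fin.cases ?_ (fun j => ?_) j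
    · rw [(jor_mul P i).1, hN, (low_pow hL _).1 i (by have := i.isLt; simp only [Fin.val_zero]; omega), add_zero]
    · rw [(jor_mul P i).2, hP i j.castSucc]
      rw [show k - j.succ.val + 1 = k - j.castSucc.val by
        have := j.isLt; simp only [Fin.val_succ, Fin.val_castSucc]; omega]

theorem jor_transpose_lowReg : LowReg (jor K k)ᵀ := by
  refine ⟨fun i j h => ?_, fun i => ?_, fun i => ?_⟩
  · have h' : i.val < j.val := h
    simp [jor, Fin.ext_iff, Nat.ne_of_gt h']
    omega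
  · simp [jor]
  · simp [jor, Fin.ext_iff]

theorem upper_conj {U : Matrix (Fin (k + 1)) (Fin (k + 1)) K} (hU : UpReg U) :
    ∃ P : Matrix (Fin (k + 1)) (Fin (k + 1)) K, IsUnit P.det ∧ U * P = P * jor K k := by
  obtain ⟨P, hPu, hP⟩ := lower_conj (L := Uᵀ) ⟨fun i j h => hU.zero j i h, hU.diag, hU.sup⟩
  obtain ⟨Q, hQu, hQ⟩ := lower_conj (jor_transpose_lowReg (K := K) (k := k))
  have hPT : IsUnit Pᵀ.det := by rwa [Matrix.det_transpose]
  refine ⟨Pᵀ⁻¹ * Q, ?_, ?_⟩
  · rw [Matrix.det_mul]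
    exact (Matrix.isUnit_nonsing_inv_det _ hPT).mul hQu
  · have h := congrArg Matrix.transpose hP
    rw [Matrix.transpose_mul, Matrix.transpose_mul, Matrix.transpose_transpose] at h
    have h2 : U * Pᵀ⁻¹ = Pᵀ⁻¹ * (jor K k)ᵀ := by
      rw [← Matrix.one_mul (U * Pᵀ⁻¹), ← Matrix.nonsing_inv_mul _ hPT, Matrix.mul_assoc, ← Matrix.mul_assoc Pᵀ U,
        h, Matrix.mul_assoc (jor K k)ᵀ, Matrix.mul_nonsing_inv _ hPT, Matrix.mul_one]
    rw [← Matrix.mul_assoc, h2, Matrix.mul_assoc, hQ, Matrix.mul_assoc]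

/-- Transport a matrix to a basis. -/
theorem exists_change {g M : Matrix (Fin (k + 1)) (Fin (k + 1)) K} (bb : Basis (Fin (k + 1)) K (Fin (k + 1) → K))
    (h : LinearMap.toMatrix bb bb (Matrix.toLin' g) = M) :
    ∃ P : Matrix (Fin (k + 1)) (Fin (k + 1)) K, IsUnit P.det ∧ g * P = P * M := by
  set e := Pi.basisFun K (Fin (k + 1))
  refine ⟨LinearMap.toMatrix bb e LinearMap.id, ?_, ?_⟩
  · refine Matrix.isUnit_det_of_right_inverse (B := LinearMap.toMatrix e bb LinearMap.id) ?_
    rw [← LinearMap.toMatrix_comp e bb e, LinearMap.comp_id, LinearMap.toMatrix_id]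
  · have hg : LinearMap.toMatrix e e (Matrix.toLin' g) = g := by
      rw [LinearMap.toMatrix_eq_toMatrix', LinearMap.toMatrix'_toLin']
    rw [← h]
    conv_lhs => rw [← hg]
    rw [← LinearMap.toMatrix_comp bb e e, ← LinearMap.toMatrix_comp bb bb e, LinearMap.comp_id, LinearMap.id_comp]

/-- The product of two conjugates of the block, from a triangular factorisation. -/
theorem two_conj {g A B : Matrix (Fin (k + 1)) (Fin (k + 1)) K} {P Q R : Matrix (Fin (k + 1)) (Fin (k + 1)) K}
    (hP : IsUnit P.det) (hQ : IsUnit Q.det) (hR : IsUnit R.det) (hg : g * P = P * (A * B)) (hA : A * Q = Q * jor K k)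
    (hB : B * R = R * jor K k) :
    ∃ x y : GL (Fin (k + 1)) K, g = ((x : Matrix _ _ K) * jor K k * (↑(x⁻¹) : Matrix _ _ K)) *
      ((y : Matrix _ _ K) * jor K k * (↑(y⁻¹) : Matrix _ _ K)) := by
  obtain ⟨P, rfl⟩ := (Matrix.isUnit_iff_isUnit_det P).2 hP
  obtain ⟨Q, rfl⟩ := (Matrix.isUnit_iff_isUnit_det Q).2 hQ
  obtain ⟨R, rfl⟩ := (Matrix.isUnit_iff_isUnit_det R).2 hR
  refine ⟨P * Q, P * R, ?_⟩
  have e1 : (P : Matrix (Fin (k + 1)) (Fin (k + 1)) K) * A * (↑P⁻¹ : Matrix _ _ K) =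
      (↑(P * Q) : Matrix _ _ K) * jor K k * (↑(P * Q)⁻¹ : Matrix _ _ K) := by
    rw [Units.val_mul, _root_.mul_inv_rev, Units.val_mul, mul_assoc (P : Matrix (Fin (k + 1)) (Fin (k + 1)) K) (Q : Matrix (Fin (k + 1)) (Fin (k + 1)) K), ← hA]
    simp [mul_assoc]
  have e2 : (P : Matrix (Fin (k + 1)) (Fin (k + 1)) K) * B * (↑P⁻¹ : Matrix _ _ K) =
      (↑(P * R) : Matrix _ _ K) * jor K k * (↑(P * R)⁻¹ : Matrix _ _ K) := by
    rw [Units.val_mul, _root_.mul_inv_rev, Units.val_mul, mul_assoc (P : Matrix (Fin (k + 1)) (Fin (k + 1)) K) (R : Matrix (Fin (k + 1)) (Fin (k + 1)) K), ← hB]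
    simp [mul_assoc]
  rw [← e1, ← e2]
  calc g = g * (P : Matrix _ _ K) * (↑P⁻¹ : Matrix _ _ K) := by simp [mul_assoc]
    _ = _ := by rw [hg]; simp [mul_assoc]

end Cfsg.Agent.Recog.RegUni
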