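import Cfsg.Agent.Lib.Recog.RegUnipotent.Avoid

/-!
One step of the triangular factorisation of a non-scalar map.
-/

set_option autoImplicit false

namespace Cfsg.Agent.Recog.RegUni

open Module Matrix

variable {K : Type*} [Field K] {V : Type*} [AddCommGroup V] [Module K V]

/-- The Schur complement on the complement `ker φ` of `v`. -/
def sch (A : Module.End K V) (φ : V →ₗ[K] K) (v : V) (h : φ (A v) = 1) : Module.End K (LinearMap.ker φ) :=
  LinearMap.codRestrict (LinearMap.ker φ)
    ((A - (φ.comp A).smulRight (A v)).comp (LinearMap.ker φ).subtype)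
    (fun x => by simp [h])

theorem coe_sch (A : Module.End K V) (φ : V →ₗ[K] K) (v : V) (h : φ (A v) = 1) (x : LinearMap.ker φ) :
    ((sch A φ v h x : LinearMap.ker φ) : V) = A (x : V) - φ (A (x : V)) • A v := rfl

/-- The lower factor. -/
def consL {n : ℕ} (w : Fin n → K) (L : Matrix (Fin n) (Fin n) K) : Matrix (Fin (n + 1)) (Fin (n + 1)) K :=
  Matrix.of (Fin.cons (Fin.cons 1 0) fun i => Fin.cons (w i) (L i))

/-- The upper factor. -/
def consU {n : ℕ} (ψ : Fin n → K) (U : Matrix (Fin n) (Fin n) K) : Matrix (Fin (n + 1)) (Fin (n + 1)) K :=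
  Matrix.of (Fin.cons (Fin.cons 1 ψ) fun i => Fin.cons 0 (U i))

theorem det_consL {n : ℕ} (w : Fin n → K) (L : Matrix (Fin n) (Fin n) K) : (consL w L).det = L.det := by
  rw [Matrix.det_succ_row_zero, Finset.sum_eq_single 0]
  · simp only [consL, Fin.val_zero, pow_zero, one_mul, Matrix.of_apply, Fin.cons_zero, Fin.succAbove_zero]
    congr 1
  · intro j _ hj
    obtain ⟨i, rfl⟩ := Fin.exists_succ_eq.2 hj
    simp [consL]
  · simp

theorem det_consU {n : ℕ} (ψ : Fin n → K) (U : Matrix (Fin n) (Fin n) K) : (consU ψ U).det = U.det := by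
  rw [Matrix.det_succ_column_zero, Finset.sum_eq_single 0]
  · simp only [consU, Fin.val_zero, pow_zero, one_mul, Matrix.of_apply, Fin.cons_zero, Fin.succAbove_zero]
    congr 1
  · intro j _ hj
    obtain ⟨i, rfl⟩ := Fin.exists_succ_eq.2 hj
    simp [consU]
  · simp

variable [FiniteDimensional K V]

/-- Prepending `v` to a basis of `ker φ` prepends a row and a column to a factorisation. -/
theorem cons_matrix (A : Module.End K V) (φ : V →ₗ[K] K) (v : V) (h1 : φ v = 1) (h : φ (A v) = 1) {n : ℕ}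
    (b : Basis (Fin n) K (LinearMap.ker φ)) (L U : Matrix (Fin n) (Fin n) K)
    (hLU : LinearMap.toMatrix b b (sch A φ v h) = L * U) :
    ∃ bb : Basis (Fin (n + 1)) K V, bb 0 = v ∧ (∀ i, bb (Fin.succ i) = (b i : V)) ∧
      LinearMap.toMatrix bb bb A =
        consL (fun i => b.repr ⟨A v - v, by simp [h, h1]⟩ i) L * consU (fun j => φ (A (b j : V))) U := by
  let bb := Basis.mkFinCons v b (fun s x hx hs => by
      have := congrArg φ hs
      rw [map_add, map_smul, h1, LinearMap.mem_ker.1 hx, map_zero, smul_eq_mul, mul_one, add_zero] at this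
      exact this)
    (fun z => ⟨-φ z, by simp [h1]⟩)
  have hbb : ⇑bb = Fin.cons v ((↑) ∘ ⇑b) := Basis.coe_mkFinCons v b _ _
  have hb0 : bb 0 = v := by rw [hbb, Fin.cons_zero]
  have hbs : ∀ i, bb (Fin.succ i) = (b i : V) := fun i => by rw [hbb, Fin.cons_succ]; rfl
  refine ⟨bb, hb0, hbs, ?_⟩
  set wv : LinearMap.ker φ := ⟨A v - v, by simp [h, h1]⟩ with hwv
  have hw : ∑ i, b.repr wv i • (b i : V) = A v - v := by
    have := congrArg Subtype.val (b.sum_repr wv)
    rw [Submodule.coe_sum] at this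
    exact this
  suffices Matrix.toLin bb bb (consL (fun i => b.repr wv i) L * consU (fun j => φ (A (b j : V))) U) = A by
    conv_lhs => rw [← this]
    rw [LinearMap.toMatrix_toLin]
  refine bb.ext fun j => ?_
  rw [Matrix.toLin_self, Fin.sum_univ_succ, hb0]
  simp only [hbs, Matrix.mul_apply, Fin.sum_univ_succ, consL, consU, Matrix.of_apply, Fin.cons_zero, Fin.cons_succ,
    Pi.zero_apply, zero_mul, Finset.sum_const_zero, add_zero]
  refine Fin.cases ?_ (fun j => ?_) j
  · simp only [Fin.cons_zero, mul_one, mul_zero, Finset.sum_const_zero, add_zero, one_smul]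
    rw [hb0, hw]; abel
  · simp only [Fin.cons_succ, one_mul, add_smul, Finset.sum_add_distrib]
    rw [hbs]
    have hB : ∑ i, (∑ l, L i l * U l j) • (b i : V) = A (b j : V) - φ (A (b j : V)) • A v := by
      rw [← coe_sch A φ v h, ← Matrix.toLin_toMatrix b b (sch A φ v h), hLU, Matrix.toLin_self, Submodule.coe_sum]
      simp only [Matrix.mul_apply, Submodule.coe_smul]
    have hw' : ∑ i, (b.repr wv i * φ (A (b j : V))) • (b i : V) = φ (A (b j : V)) • (A v - v) := by
      rw [← hw, Finset.smul_sum]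
      exact Finset.sum_congr rfl fun i _ => by rw [smul_smul, mul_comm]
    rw [hB, hw', smul_sub]; abel

theorem det_sch (A : Module.End K V) (φ : V →ₗ[K] K) (v : V) (h1 : φ v = 1) (h : φ (A v) = 1) :
    LinearMap.det (sch A φ v h) = LinearMap.det A := by
  classical
  let b := Module.finBasis K (LinearMap.ker φ)
  obtain ⟨bb, -, -, hM⟩ := cons_matrix A φ v h1 h b 1 (LinearMap.toMatrix b b (sch A φ v h)) (by rw [Matrix.one_mul])
  rw [← LinearMap.det_toMatrix bb A, hM, Matrix.det_mul, det_consL, det_consU, Matrix.det_one, one_mul,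
    LinearMap.det_toMatrix]

theorem exists_functional {p : Submodule K V} {y : V} (hy : y ∉ p) : ∃ f : V →ₗ[K] K, f y ≠ 0 ∧ ∀ x ∈ p, f x = 0 := by
  obtain ⟨f, hf, hf'⟩ := Submodule.exists_dual_map_eq_bot_of_notMem hy inferInstance
  exact ⟨f, hf, fun x hx => (Submodule.mem_bot K).1 (hf' ▸ Submodule.mem_map_of_mem hx)⟩

/-- An invariant plane with determinant one in dimension three. -/
theorem range_le_plane {A : Module.End K V} (hk : finrank K V = 3) (hdet : LinearMap.det A = 1) {v w : V}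
    (hAv : A v = v + w) (hli : LinearIndependent K ![v, w]) {α γ : K} (hAw : A w = α • v + γ • w) (hαγ : γ - α = 1) :
    LinearMap.range (A - 1) ≤ Submodule.span K {v, w} := by
  classical
  set P := Submodule.span K ({v, w} : Set V) with hP
  have hvP : v ∈ P := Submodule.subset_span (by simp)
  have hwP : w ∈ P := Submodule.subset_span (by simp)
  obtain ⟨x, -, hx⟩ : ∃ x, x ∈ (⊤ : Submodule K V) ∧ x ∉ P := SetLike.exists_of_lt (lt_top_iff_ne_top.2 fun h0 => by
    have h1 := finrank_span_le_card (R := K) ({v, w} : Set V)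
    rw [← hP, h0, finrank_top] at h1
    have h2 : ({v, w} : Set V).toFinset.card ≤ 2 := by simp [Finset.card_le_two]
    omega)
  have hli3 : LinearIndependent K ![v, w, x] := by
    rw [Fintype.linearIndependent_iff]
    intro g hg
    simp only [Fin.sum_univ_three, Matrix.cons_val_zero, Matrix.cons_val_one, Matrix.cons_val_two,
      Matrix.tail_cons, Matrix.head_cons] at hg
    have h2 : g 2 = 0 := by
      by_contra h2
      refine hx ?_
      have : x = (-(g 2)⁻¹ * g 0) • v + (-(g 2)⁻¹ * g 1) • w := by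
        have h3 := congrArg (fun z => (g 2)⁻¹ • z) hg
        simp only [smul_add, smul_smul, smul_zero, inv_mul_cancel₀ h2, one_smul] at h3
        linear_combination (norm := module) h3
      rw [this]
      exact P.add_mem (P.smul_mem _ hvP) (P.smul_mem _ hwP)
    rw [h2, zero_smul, add_zero] at hg
    obtain ⟨a, b⟩ := LinearIndependent.pair_iff.1 hli _ _ hg
    intro i; fin_cases i <;> assumption
  let bb := basisOfLinearIndependentOfCardEqFinrank hli3 (by simp [hk])
  have hbb : ⇑bb = ![v, w, x] := coe_basisOfLinearIndependentOfCardEqFinrank _ _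
  set p := bb.repr (A x) with hp
  have hAx : A x = p 0 • v + p 1 • w + p 2 • x := by
    have := (bb.sum_repr (A x)).symm
    rwa [Fin.sum_univ_three, hbb] at this
  set M : Matrix (Fin 3) (Fin 3) K := !![1, α, p 0; 1, γ, p 1; 0, 0, p 2] with hM
  have hA : Matrix.toLin bb bb M = A := by
    refine bb.ext fun j => ?_
    rw [Matrix.toLin_self, Fin.sum_univ_three, hbb]
    fin_cases j <;> simp [M, hAv, hAw, hAx]
  have hl : p 2 = 1 := by
    rw [← hA, LinearMap.det_toLin, Matrix.det_fin_three] at hdet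
    simp [M] at hdet
    linear_combination hdet - p 2 * hαγ
  rintro _ ⟨z, rfl⟩
  rw [← bb.sum_repr z, Fin.sum_univ_three, hbb]
  simp only [Matrix.cons_val_zero, Matrix.cons_val_one, Matrix.cons_val_two, Matrix.tail_cons, Matrix.head_cons,
    LinearMap.sub_apply, Module.End.one_apply, map_add, map_smul, hAv, hAw, hAx, hl]
  set a0 := bb.repr z 0
  set a1 := bb.repr z 1
  set a2 := bb.repr z 2
  have : a0 • (v + w - v) + a1 • (α • v + γ • w - w) + a2 • (p 0 • v + p 1 • w + (1 : K) • x - x) =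
      (a1 * α + a2 * p 0) • v + (a0 + a1 * γ + a2 * p 1 - a1) • w := by module
  rw [this]
  exact P.add_mem (P.smul_mem _ hvP) (P.smul_mem _ hwP)

/-- One step. -/
theorem step (T : Finset K) (hT : 4 ≤ T.card) (hT5 : (2 : K) = 0 ∨ ∃ T5 : Finset K, 5 ≤ T5.card)
    (A : Module.End K V) (hk : 3 ≤ finrank K V) (hdet : LinearMap.det A = 1) (hns : ¬ ∃ a : K, A = a • 1)
    (hrk : 2 ≤ finrank K (LinearMap.range (A - 1))) (c : V) (hc : c ≠ 0) (r : V →ₗ[K] K) (hr : r ≠ 0) :
    ∃ (v : V) (φ : V →ₗ[K] K) (h : φ (A v) = 1), φ v = 1 ∧ φ c ≠ 0 ∧ r v ≠ 0 ∧ A v - v ≠ 0 ∧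
      (∃ x ∈ LinearMap.ker φ, φ (A x) ≠ 0) ∧ (¬ ∃ a : K, sch A φ v h = a • 1) ∧
      2 ≤ finrank K (LinearMap.range (sch A φ v h - 1)) := by
  classical
  set D := A - 1 with hD
  have hDap : ∀ z, D z = A z - z := fun z => by rw [hD, LinearMap.sub_apply, Module.End.one_apply]
  -- the vector
  obtain ⟨g, hg, hgD⟩ : ∃ g : V →ₗ[K] K, g ≠ 0 ∧ (LinearMap.range D ≠ ⊤ → ∀ x ∈ LinearMap.range D, g x = 0) := by
    by_cases h : LinearMap.range D = ⊤
    · exact ⟨r, hr, fun h' => absurd h h'⟩
    · obtain ⟨y, -, hy⟩ := SetLike.exists_of_lt (lt_top_iff_ne_top.2 h)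
      obtain ⟨g, hg, hg'⟩ := exists_functional hy
      exact ⟨g, fun h0 => hg (LinearMap.congr_fun h0 y), fun _ => hg'⟩
  obtain ⟨h3, hh3, hh3'⟩ : ∃ f : V →ₗ[K] K, f ≠ 0 ∧ ∀ x, D x ∈ K ∙ c → f x = 0 := by
    obtain ⟨y, hy⟩ : ∃ y, y ∉ (K ∙ c).comap D := by
      by_contra h
      push Not at h
      have h1 : LinearMap.range D ≤ K ∙ c := by rintro _ ⟨z, rfl⟩; exact h z
      have := Submodule.finrank_mono h1
      rw [finrank_span_singleton hc] at this
      omega
    obtain ⟨f, hf, hf'⟩ := exists_functional hy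
    exact ⟨f, fun h0 => hf (LinearMap.congr_fun h0 y), hf'⟩
  obtain ⟨v, hrv, hgv, hhv, hne⟩ := exists_not_eigen T hT A hns (by omega) r g h3 hr hg hh3 (fun h => by omega)
  set w := A v - v with hw
  have hAv : A v = v + w := by rw [hw]; abel
  have hv0 : v ≠ 0 := fun h => hrv (by rw [h, map_zero])
  have hw0 : w ≠ 0 := fun h => hne 1 (by rw [one_smul, hAv, h, add_zero])
  have hvw : v ∉ K ∙ w := fun h => by
    obtain ⟨s, hs⟩ := Submodule.mem_span_singleton.1 h
    have hs0 : s ≠ 0 := fun h0 => hv0 (by rw [← hs, h0, zero_smul])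
    refine hne (1 + s⁻¹) ?_
    rw [hAv, add_smul, one_smul]
    congr 1
    rw [← hs, smul_smul, inv_mul_cancel₀ hs0, one_smul]
  have hli : LinearIndependent K ![v, w] := by
    rw [LinearIndependent.pair_iff]
    intro a b hab
    by_cases ha : a = 0
    · rw [ha, zero_smul, zero_add] at hab
      exact ⟨ha, (smul_eq_zero.1 hab).resolve_right hw0⟩
    · exact absurd (Submodule.mem_span_singleton.2 ⟨-(a⁻¹ * b), by
        have := congrArg (fun z => a⁻¹ • z) hab
        simp only [smul_add, smul_smul, smul_zero, inv_mul_cancel₀ ha, one_smul] at this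
        linear_combination (norm := module) -this⟩) hvw
  have hcw : c ∉ K ∙ w := fun h => by
    obtain ⟨s, hs⟩ := Submodule.mem_span_singleton.1 h
    have hs0 : s ≠ 0 := fun h0 => hc (by rw [← hs, h0, zero_smul])
    exact hhv (hh3' v (Submodule.mem_span_singleton.2 ⟨s⁻¹, by
      rw [← hs, smul_smul, inv_mul_cancel₀ hs0, one_smul, hDap]⟩))
  have hAvI : LinearMap.range D ≠ ⊤ → A v ∉ LinearMap.range D := fun h hm => by
    refine hgv (hgD h v ?_)
    have := (LinearMap.range D).sub_mem hm ⟨v, hDap v⟩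
    rwa [sub_sub_cancel] at this
  -- the vectors that `φ` has to avoid
  obtain ⟨yI, hyI, hyIw⟩ : ∃ y ∈ LinearMap.range D, y ∉ K ∙ w := by
    by_contra h
    push Not at h
    have := Submodule.finrank_mono (show LinearMap.range D ≤ K ∙ w from h)
    rw [finrank_span_singleton hw0] at this
    omega
  have hrn := D.finrank_range_add_finrank_ker
  obtain ⟨yM, hyM, hyMw⟩ : ∃ y, (∀ φ : V →ₗ[K] K, φ v = 1 → φ w = 0 → φ y ≠ 0 →
      3 ≤ finrank K ↥((LinearMap.ker φ).map D ⊔ (K ∙ A v))) ∧ y ∉ K ∙ w := by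
    have hdimW : ∀ φ : V →ₗ[K] K, φ v = 1 →
        finrank K (LinearMap.range D) ≤ finrank K ↥((LinearMap.ker φ).map D) + 1 := by
      intro φ hφ
      have h1 : LinearMap.range D ≤ (LinearMap.ker φ).map D ⊔ (K ∙ w) := by
        rintro _ ⟨z, rfl⟩
        refine Submodule.mem_sup.2 ⟨D (z - φ z • v), ⟨_, by simp [hφ], rfl⟩, φ z • w,
          Submodule.smul_mem _ _ (Submodule.mem_span_singleton_self w), ?_⟩
        rw [map_sub, map_smul, hDap v, ← hw, sub_add_cancel]
      have h2 := (Submodule.finrank_mono h1).trans (Submodule.finrank_add_le_finrank_add_finrank _ _)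
      rwa [finrank_span_singleton hw0] at h2
    have hplus : ∀ φ : V →ₗ[K] K, A v ∉ (LinearMap.ker φ).map D →
        finrank K ↥((LinearMap.ker φ).map D) + 1 ≤ finrank K ↥((LinearMap.ker φ).map D ⊔ (K ∙ A v)) := by
      intro φ h
      exact Submodule.finrank_lt_finrank_of_lt (lt_of_le_of_ne le_sup_left fun he =>
        h (he.ge (Submodule.mem_sup_right (Submodule.mem_span_singleton_self _))))
    rcases Nat.lt_or_ge 3 (finrank K (LinearMap.range D)) with hr4 | hr3
    · refine ⟨v, fun φ hφ _ _ => ?_, hvw⟩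
      have h1 := hdimW φ hφ
      have h2 := Submodule.finrank_mono (le_sup_left : (LinearMap.ker φ).map D ≤ (LinearMap.ker φ).map D ⊔ (K ∙ A v))
      omega
    by_cases htop : LinearMap.range D = ⊤
    · have hk3 : finrank K V = 3 := by rw [htop, finrank_top] at hr3; omega
      obtain ⟨y, hy⟩ : A v ∈ LinearMap.range D := htop ▸ Submodule.mem_top
      have hinj : Function.Injective D := by
        rw [← LinearMap.ker_eq_bot, ← Submodule.finrank_eq_zero (R := K)]
        rw [htop, finrank_top] at hrn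
        omega
      refine ⟨y, fun φ hφ _ hφy => ?_, ?_⟩
      · have h1 := hdimW φ hφ
        rw [htop, finrank_top, hk3] at h1
        have h2 := hplus φ (fun ⟨x, hx, hxy⟩ => hφy (by
          rw [← hinj (hxy.trans hy.symm)]; exact LinearMap.mem_ker.1 hx))
        omega
      · intro hyw
        obtain ⟨μ, hμ⟩ := Submodule.mem_span_singleton.1 hyw
        have hμ0 : μ ≠ 0 := fun h0 => hne 0 (by rw [← hy, ← hμ, h0, zero_smul, map_zero, zero_smul])
        have hDw : D w = μ⁻¹ • (v + w) := by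
          rw [← hAv, ← hy, ← hμ, map_smul, smul_smul, inv_mul_cancel₀ hμ0, one_smul]
        rw [hDap] at hDw
        have hP := range_le_plane hk3 hdet hAv hli (α := μ⁻¹) (γ := 1 + μ⁻¹)
          (by linear_combination (norm := module) hDw) (by ring)
        rw [← hD, htop] at hP
        have h1 := Submodule.finrank_mono hP
        rw [finrank_top] at h1
        have h2 := finrank_span_le_card (R := K) ({v, w} : Set V)
        have h3 : ({v, w} : Set V).toFinset.card ≤ 2 := by simp [Finset.card_le_two]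
        omega
    by_cases hr2 : finrank K (LinearMap.range D) = 2
    · obtain ⟨y, hy, hyw⟩ : ∃ y ∈ LinearMap.ker D, y ∉ K ∙ w := by
        by_contra h
        push Not at h
        have hle : LinearMap.ker D ≤ K ∙ w := h
        have h1 := Submodule.finrank_mono hle
        rw [finrank_span_singleton hw0] at h1
        have hk3 : finrank K V = 3 := by omega
        have heq : LinearMap.ker D = K ∙ w :=
          Submodule.eq_of_le_of_finrank_le hle (by rw [finrank_span_singleton hw0]; omega)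
        have hDw : D w = 0 := LinearMap.mem_ker.1 (heq ▸ Submodule.mem_span_singleton_self w)
        rw [hDap, sub_eq_zero] at hDw
        have hP := range_le_plane hk3 hdet hAv hli (α := 0) (γ := 1) (by rw [hDw, zero_smul, zero_add, one_smul]) (by ring)
        rw [← hD] at hP
        have h2 := finrank_span_le_card (R := K) ({v, w} : Set V)
        have h3 : ({v, w} : Set V).toFinset.card ≤ 2 := by simp [Finset.card_le_two]
        have heq2 := Submodule.eq_of_le_of_finrank_le hP (by omega)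
        exact hgv (hgD htop v (heq2 ▸ Submodule.subset_span (by simp)))
      refine ⟨y, fun φ hφ _ hφy => ?_, hyw⟩
      have hmem : LinearMap.range D ≤ (LinearMap.ker φ).map D := by
        rintro _ ⟨z, rfl⟩
        refine ⟨z - (φ z / φ y) • y, LinearMap.mem_ker.2 ?_, ?_⟩
        · rw [map_sub, map_smul, smul_eq_mul, div_mul_cancel₀ _ hφy, sub_self]
        · rw [map_sub, map_smul, LinearMap.mem_ker.1 hy, smul_zero, sub_zero]
      have h1 := hplus φ (fun h => hAvI htop (LinearMap.map_le_range h))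
      have h2 := Submodule.finrank_mono hmem
      omega
    · refine ⟨v, fun φ hφ _ _ => ?_, hvw⟩
      have h1 := hdimW φ hφ
      have h2 := hplus φ (fun h => hAvI htop (LinearMap.map_le_range h))
      omega
  -- functionals killing `w`
  let Wd : Submodule K (V →ₗ[K] K) := LinearMap.ker (Module.Dual.eval K V w)
  let ev : V → Wd →ₗ[K] K := fun y => (Module.Dual.eval K V y).comp Wd.subtype
  have hev : ∀ (y : V) (φ : Wd), ev y φ = (φ : V →ₗ[K] K) y := fun _ _ => rfl
  have hev0 : ∀ y, y ∉ K ∙ w → ev y ≠ 0 := by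
    intro y hy h0
    obtain ⟨f, hf, hf'⟩ := exists_functional hy
    exact hf (LinearMap.congr_fun h0 ⟨f, LinearMap.mem_ker.2 (hf' w (Submodule.mem_span_singleton_self w))⟩)
  -- what a good functional gives
  let Good : (V →ₗ[K] K) → Prop := fun φ => φ v = 1 ∧ φ w = 0 ∧ φ c ≠ 0 ∧ φ yI ≠ 0 ∧ φ yM ≠ 0
  have hGood : ∀ φ : Wd, ev v φ ≠ 0 → ev c φ ≠ 0 → ev yI φ ≠ 0 → ev yM φ ≠ 0 →
      Good ((ev v φ)⁻¹ • (φ : V →ₗ[K] K)) := by
    intro φ a b d e
    have hw' : (φ : V →ₗ[K] K) w = 0 := LinearMap.mem_ker.1 φ.2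
    refine ⟨?_, ?_, ?_, ?_, ?_⟩ <;> simp only [LinearMap.smul_apply, smul_eq_mul, hw', mul_zero]
    · exact inv_mul_cancel₀ a
    · exact mul_ne_zero (inv_ne_zero a) b
    · exact mul_ne_zero (inv_ne_zero a) d
    · exact mul_ne_zero (inv_ne_zero a) e
  have hAv1 : ∀ φ, Good φ → φ (A v) = 1 := fun φ hφ => by rw [hAv, map_add, hφ.1, hφ.2.1, add_zero]
  have hrank : ∀ φ (h : Good φ), 2 ≤ finrank K (LinearMap.range (sch A φ v (hAv1 φ h) - 1)) := by
    intro φ hφ
    set B := sch A φ v (hAv1 φ hφ)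
    have hle : (LinearMap.ker φ).map D ⊔ (K ∙ A v) ≤
        (LinearMap.range (B - 1)).map (LinearMap.ker φ).subtype ⊔ (K ∙ A v) := by
      refine sup_le ?_ le_sup_right
      rintro _ ⟨x, hx, rfl⟩
      refine Submodule.mem_sup.2 ⟨((B - 1) ⟨x, hx⟩ : LinearMap.ker φ), ⟨_, ⟨⟨x, hx⟩, rfl⟩, rfl⟩,
        φ (A x) • A v, Submodule.smul_mem _ _ (Submodule.mem_span_singleton_self _), ?_⟩
      rw [LinearMap.sub_apply, Module.End.one_apply, Submodule.coe_sub, coe_sch, hDap]
      abel
    have h1 := (hyM φ hφ.1 hφ.2.1 hφ.2.2.2.2).trans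
      ((Submodule.finrank_mono hle).trans (Submodule.finrank_add_le_finrank_add_finrank _ _))
    rw [Submodule.finrank_map_subtype_eq, finrank_span_singleton (fun h0 : A v = 0 => hne 0 (by rw [h0, zero_smul]))] at h1
    omega
  have hrow : ∀ φ, Good φ → ∃ x ∈ LinearMap.ker φ, φ (A x) ≠ 0 := by
    intro φ hφ
    obtain ⟨z, hz⟩ := hyI
    have hxm : z - φ z • v ∈ LinearMap.ker φ := by simp [hφ.1]
    refine ⟨z - φ z • v, hxm, fun h0 => hφ.2.2.2.1 ?_⟩
    rw [← hz, hDap, map_sub]
    rw [map_sub, map_smul, map_sub, map_smul, hAv1 φ hφ, smul_eq_mul, mul_one] at h0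
    exact h0
  -- only one functional gives a scalar complement
  have hone : ∀ φ φ' (h : Good φ) (h' : Good φ') (a a' : K), sch A φ v (hAv1 φ h) = a • 1 →
      sch A φ' v (hAv1 φ' h') = a' • 1 → φ = φ' := by
    intro φ φ' hφ hφ' a a' ha ha'
    have e : ∀ ψ (h : Good ψ) (s : K), sch A ψ v (hAv1 ψ h) = s • 1 → ∀ x ∈ LinearMap.ker ψ,
        A x = s • x + ψ (A x) • A v := by
      intro ψ h s hs x hx
      have := congrArg Subtype.val (LinearMap.congr_fun hs ⟨x, hx⟩)
      rw [coe_sch] at this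
      exact sub_eq_iff_eq_add.1 this
    by_contra hne'
    by_cases haa : a = a'
    · obtain ⟨x, hx, hx'⟩ : ∃ x, φ x = 0 ∧ φ' x ≠ 0 := by
        by_contra h0
        push Not at h0
        refine hne' (LinearMap.ext fun z => ?_)
        have := h0 (z - φ z • v) (by simp [hφ.1])
        rw [map_sub, map_smul, hφ'.1, smul_eq_mul, mul_one, sub_eq_zero] at this
        exact this.symm
      set α := φ' x with hα
      have hu : φ' (α⁻¹ • x - v) = 0 := by
        rw [map_sub, map_smul, smul_eq_mul, hφ'.1, inv_mul_cancel₀ hx', sub_self]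
      have e1 := e φ hφ a ha x (LinearMap.mem_ker.2 hx)
      have e2 := e φ' hφ' a' ha' _ (LinearMap.mem_ker.2 hu)
      set μ := φ' (A (α⁻¹ • x - v))
      rw [map_sub, map_smul, e1, ← haa] at e2
      set ν := α⁻¹ * φ (A x) - μ with hν
      have e3 : (1 - ν) • (v + w) = a • v := by
        rw [← hAv]; linear_combination (norm := (rw [hν]; module)) -e2
      have h4 : (1 - ν - a) • v + (1 - ν) • w = 0 := by linear_combination (norm := module) e3
      obtain ⟨h5, h6⟩ := LinearIndependent.pair_iff.1 hli _ _ h4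
      have ha0 : a = 0 := by linear_combination h6 - h5
      have hd := det_sch A φ v hφ.1 (hAv1 φ hφ)
      rw [ha, hdet, ha0, zero_smul, LinearMap.det_zero, zero_pow] at hd
      · exact zero_ne_one hd
      · have := (LinearMap.range φ).finrank_le
        have h7 := φ.finrank_range_add_finrank_ker
        rw [Module.finrank_self] at this
        omega
    · obtain ⟨z, hz, hz0⟩ : ∃ z ∈ LinearMap.ker (φ.prod φ'), z ≠ 0 := by
        refine (Submodule.ne_bot_iff _).1 fun h0 => ?_
        have h1 := (φ.prod φ').finrank_range_add_finrank_ker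
        have h2 := (LinearMap.range (φ.prod φ')).finrank_le
        rw [h0, finrank_bot] at h1
        rw [Module.finrank_prod, Module.finrank_self] at h2
        omega
      rw [LinearMap.mem_ker, LinearMap.prod_apply, Prod.mk_eq_zero] at hz
      have hz1 : φ z = 0 := hz.1
      have hz2 : φ' z = 0 := hz.2
      have e1 := e φ hφ a ha z (LinearMap.mem_ker.2 hz1)
      have e2 := e φ' hφ' a' ha' z (LinearMap.mem_ker.2 hz2)
      have e3 : (a - a') • z = (φ' (A z) - φ (A z)) • A v := by
        linear_combination (norm := module) e2 - e1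
      have h4 := congrArg φ e3
      rw [map_smul, map_smul, hz1, hAv1 φ hφ, smul_zero, smul_eq_mul, mul_one] at h4
      rw [← h4, zero_smul, smul_eq_zero] at e3
      exact e3.elim (fun h => haa (sub_eq_zero.1 h)) hz0
  -- choose
  have hbase : ∀ y ∈ ({v, c, yI, yM} : Finset V), ev y ≠ 0 := by
    intro y hy
    simp only [Finset.mem_insert, Finset.mem_singleton] at hy
    rcases hy with rfl | rfl | rfl | rfl <;> apply hev0 <;> assumption
  obtain ⟨φ₀, hφ₀⟩ := avoid (V := ↥Wd) (f := ev) T ({v, c, yI, yM} : Finset V) ((Finset.card_le_four).trans hT) hbase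
  set φ₁ := (ev v φ₀)⁻¹ • (φ₀ : V →ₗ[K] K) with hφ₁
  have hG₁ : Good φ₁ := hGood φ₀ (hφ₀ v (by simp)) (hφ₀ c (by simp)) (hφ₀ yI (by simp)) (hφ₀ yM (by simp))
  have hfin : ∀ φ (h : Good φ), (¬ ∃ a : K, sch A φ v (hAv1 φ h) = a • 1) →
      ∃ (v' : V) (φ' : V →ₗ[K] K) (h : φ' (A v') = 1), φ' v' = 1 ∧ φ' c ≠ 0 ∧ r v' ≠ 0 ∧ A v' - v' ≠ 0 ∧
        (∃ x ∈ LinearMap.ker φ', φ' (A x) ≠ 0) ∧ (¬ ∃ a : K, sch A φ' v' h = a • 1) ∧
        2 ≤ finrank K (LinearMap.range (sch A φ' v' h - 1)) :=
    fun φ h hns' => ⟨v, φ, hAv1 φ h, h.1, h.2.2.1, hrv, hw0, hrow φ h, hns', hrank φ h⟩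
  by_cases hs : ∃ a : K, sch A φ₁ v (hAv1 φ₁ hG₁) = a • 1
  swap
  · exact hfin φ₁ hG₁ hs
  obtain ⟨a, ha⟩ := hs
  suffices h : ∃ φ, Good φ ∧ φ ≠ φ₁ by
    obtain ⟨φ, hφ, hne'⟩ := h
    exact hfin φ hφ fun ⟨a', ha'⟩ => hne' (hone φ φ₁ hφ hG₁ a' a ha' ha)
  have hker1 := φ₁.finrank_range_add_finrank_ker
  have hker2 := (LinearMap.range φ₁).finrank_le
  rw [Module.finrank_self] at hker2
  rcases Nat.lt_or_ge 3 (finrank K V) with hk4 | hk3
  · -- a second direction
    have hWd : finrank K V ≤ finrank K Wd + 1 := by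
      have h1 := (Module.Dual.eval K V w).finrank_range_add_finrank_ker
      have h2 := (LinearMap.range (Module.Dual.eval K V w)).finrank_le
      rw [Module.finrank_self] at h2
      rw [Subspace.dual_finrank_eq] at h1
      change finrank K V ≤ finrank K (LinearMap.ker (Module.Dual.eval K V w)) + 1
      omega
    obtain ⟨d, hd, hd0⟩ : ∃ d ∈ LinearMap.ker ((ev v).prod (ev c)), d ≠ 0 := by
      refine (Submodule.ne_bot_iff _).1 fun h0 => ?_
      have h1 := LinearMap.finrank_range_add_finrank_ker (V := ↥Wd) (V₂ := K × K) ((ev v).prod (ev c))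
      have h2 := Submodule.finrank_le (M := K × K) (LinearMap.range ((ev v).prod (ev c)))
      rw [h0, finrank_bot] at h1
      rw [Module.finrank_prod, Module.finrank_self] at h2
      omega
    rw [LinearMap.mem_ker, LinearMap.prod_apply, Prod.mk_eq_zero] at hd
    obtain ⟨t, -, ht⟩ := Finset.exists_mem_notMem_of_card_lt_card
      (s := ({0, -(φ₁ yI) / ev yI d, -(φ₁ yM) / ev yM d} : Finset K)) (t := T)
      (lt_of_lt_of_le (Nat.lt_succ_of_le Finset.card_le_three) hT)
    simp only [Finset.mem_insert, Finset.mem_singleton, not_or] at ht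
    obtain ⟨ht0, ht1, ht2⟩ := ht
    have hbad : ∀ (x y : K), x ≠ 0 → t ≠ -x / y → x + t * y ≠ 0 := by
      intro x y hx hxy h0
      have hy0 : y ≠ 0 := fun h' => hx (by rwa [h', mul_zero, add_zero] at h0)
      exact hxy (by field_simp; linear_combination h0)
    refine ⟨φ₁ + t • (d : V →ₗ[K] K), ⟨?_, ?_, ?_, ?_, ?_⟩, fun h0 => ?_⟩ <;>
      try simp only [LinearMap.add_apply, LinearMap.smul_apply, smul_eq_mul]
    · rw [hG₁.1, show (d : V →ₗ[K] K) v = 0 from hd.1, mul_zero, add_zero]
    · rw [hG₁.2.1, show (d : V →ₗ[K] K) w = 0 from LinearMap.mem_ker.1 d.2, mul_zero, add_zero]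
    · rw [show (d : V →ₗ[K] K) c = 0 from hd.2, mul_zero, add_zero]; exact hG₁.2.2.1
    · exact hbad _ _ hG₁.2.2.2.1 ht1
    · exact hbad _ _ hG₁.2.2.2.2 ht2
    · rw [add_eq_left, smul_eq_zero] at h0
      exact hd0 (Subtype.ext (h0.resolve_left ht0))
  · -- dimension three: five functionals
    have hk' : finrank K V = 3 := by omega
    have hW2 : finrank K (LinearMap.ker φ₁) = 2 := by
      have : LinearMap.range φ₁ = ⊤ := LinearMap.range_eq_top.2 (LinearMap.surjective_iff_ne_zero.2 fun h0 => by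
        have := hG₁.1; rw [h0, LinearMap.zero_apply] at this; exact zero_ne_one this)
      rw [this, finrank_top, Module.finrank_self] at hker1
      omega
    obtain ⟨T5, hT5'⟩ : ∃ T5 : Finset K, 5 ≤ T5.card := by
      refine hT5.resolve_left fun h2 => ?_
      have hd := det_sch A φ₁ v hG₁.1 (hAv1 φ₁ hG₁)
      rw [ha, hdet, LinearMap.det_smul, map_one, mul_one, hW2] at hd
      have ha1 : (a - 1) * (a - 1) = 0 := by linear_combination hd + (1 - a) * h2
      have ha' : a = 1 := sub_eq_zero.1 (mul_self_eq_zero.1 ha1)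
      have := hrank φ₁ hG₁
      rw [ha, ha', one_smul, sub_self, LinearMap.range_zero, finrank_bot] at this
      omega
    obtain ⟨y₅, hy₅, hy₅w⟩ : ∃ y ∈ LinearMap.ker φ₁, y ∉ K ∙ w := by
      by_contra h
      push Not at h
      have := Submodule.finrank_mono (show LinearMap.ker φ₁ ≤ K ∙ w from h)
      rw [finrank_span_singleton hw0] at this
      omega
    obtain ⟨φ₀', hφ₀'⟩ := avoid (V := ↥Wd) (f := ev) T5 ({v, c, yI, yM, y₅} : Finset V) ((Finset.card_le_five).trans hT5') (by
      intro y hy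
      simp only [Finset.mem_insert, Finset.mem_singleton] at hy
      rcases hy with rfl | rfl | rfl | rfl | rfl <;> apply hev0 <;> assumption)
    refine ⟨(ev v φ₀')⁻¹ • (φ₀' : V →ₗ[K] K), hGood φ₀' (hφ₀' v (by simp)) (hφ₀' c (by simp))
      (hφ₀' yI (by simp)) (hφ₀' yM (by simp)), fun h0 => ?_⟩
    have := LinearMap.congr_fun h0 y₅
    rw [LinearMap.mem_ker.1 hy₅, LinearMap.smul_apply, smul_eq_zero, inv_eq_zero] at this
    exact this.elim (hφ₀' v (by simp)) (hφ₀' y₅ (by simp))

end Cfsg.Agent.Recog.RegUni
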