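import Cfsg.Agent.Lib.Recog.RegUnipotent.Core

/-!
A non-transvection of determinant one is, in a suitable basis, a product of a regular lower and a regular
upper unitriangular matrix.
-/

set_option autoImplicit false

namespace Cfsg.Agent.Recog.RegUni

open Module Matrix

universe u v

variable {K : Type u} [Field K]

/-- Lower unitriangular with nonzero subdiagonal. -/
structure LowReg {k : ℕ} (L : Matrix (Fin (k + 1)) (Fin (k + 1)) K) : Prop where
  zero : ∀ i j, i < j → L i j = 0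
  diag : ∀ i, L i i = 1
  sub : ∀ i : Fin k, L i.succ i.castSucc ≠ 0

/-- Upper unitriangular with nonzero superdiagonal. -/
structure UpReg {k : ℕ} (U : Matrix (Fin (k + 1)) (Fin (k + 1)) K) : Prop where
  zero : ∀ i j, j < i → U i j = 0
  diag : ∀ i, U i i = 1
  sup : ∀ i : Fin k, U i.castSucc i.succ ≠ 0

theorem lowReg_consL {k : ℕ} {L : Matrix (Fin (k + 1)) (Fin (k + 1)) K} (hL : LowReg L) (w : Fin (k + 1) → K)
    (hw : w 0 ≠ 0) : LowReg (consL w L) := by
  refine ⟨fun i j hij => ?_, fun i => ?_, fun i => ?_⟩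
  · obtain ⟨j, rfl⟩ := Fin.exists_succ_eq.2 (Fin.pos_iff_ne_zero.1 (lt_of_le_of_lt (Fin.zero_le i) hij))
    cases i using Fin.cases with
    | zero => simp [consL]
    | succ i => simp [consL, hL.zero i j (Fin.succ_lt_succ_iff.1 hij)]
  · cases i using Fin.cases with
    | zero => simp [consL]
    | succ i => simp [consL, hL.diag i]
  · cases i using Fin.cases with
    | zero => simp [consL, hw]
    | succ i => simp only [consL, Matrix.of_apply, Fin.cons_succ, Fin.castSucc_succ]; exact hL.sub i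

theorem upReg_consU {k : ℕ} {U : Matrix (Fin (k + 1)) (Fin (k + 1)) K} (hU : UpReg U) (ψ : Fin (k + 1) → K)
    (hψ : ψ 0 ≠ 0) : UpReg (consU ψ U) := by
  refine ⟨fun i j hij => ?_, fun i => ?_, fun i => ?_⟩
  · obtain ⟨i, rfl⟩ := Fin.exists_succ_eq.2 (Fin.pos_iff_ne_zero.1 (lt_of_le_of_lt (Fin.zero_le j) hij))
    cases j using Fin.cases with
    | zero => simp [consU]
    | succ j => simp [consU, hU.zero i j (Fin.succ_lt_succ_iff.1 hij)]
  · cases i using Fin.cases with
    | zero => simp [consU]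
    | succ i => simp [consU, hU.diag i]
  · cases i using Fin.cases with
    | zero => simp [consU, hψ]
    | succ i => simp only [consU, Matrix.of_apply, Fin.cons_succ, Fin.castSucc_succ]; exact hU.sup i

theorem step_two {V : Type v} [AddCommGroup V] [Module K V] [FiniteDimensional K V] (T : Finset K) (hT : 4 ≤ T.card)
    (A : Module.End K V) (hk : finrank K V = 2) (hdet : LinearMap.det A = 1) (hns : ¬ ∃ a : K, A = a • 1)
    (hrk : 2 ≤ finrank K (LinearMap.range (A - 1))) (c : V) (hc : c ≠ 0) (r : V →ₗ[K] K) (hr : r ≠ 0) :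
    ∃ (v : V) (φ : V →ₗ[K] K) (_ : φ (A v) = 1), φ v = 1 ∧ φ c ≠ 0 ∧ r v ≠ 0 ∧ A v - v ≠ 0 ∧
      (∃ x ∈ LinearMap.ker φ, φ (A x) ≠ 0) := by
  classical
  have hinj : LinearMap.ker (A - 1) = ⊥ := by
    rw [← Submodule.finrank_eq_zero (R := K)]
    have := (A - 1).finrank_range_add_finrank_ker
    omega
  have hDap : ∀ z, (A - 1) z = A z - z := fun z => by rw [LinearMap.sub_apply, Module.End.one_apply]
  obtain ⟨y, hy⟩ : ∃ y, y ∉ (K ∙ c).comap (A - 1) := by
    by_contra h
    push Not at h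
    have h1 : LinearMap.range (A - 1) ≤ K ∙ c := by rintro _ ⟨z, rfl⟩; exact h z
    have := Submodule.finrank_mono h1
    rw [finrank_span_singleton hc] at this
    omega
  obtain ⟨h3, hh3, hh3'⟩ := exists_functional hy
  obtain ⟨v, hrv, hgv, -, hne⟩ := exists_not_eigen T hT A hns (by omega) r h3 r hr
    (fun h0 => hh3 (LinearMap.congr_fun h0 y)) hr (fun _ => rfl)
  set w := A v - v with hw
  have hw0 : w ≠ 0 := fun h => hne 1 (by rw [one_smul]; exact sub_eq_zero.1 h)
  have hv0 : v ≠ 0 := fun h => hrv (by rw [h, map_zero])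
  have hvw : v ∉ K ∙ w := fun h => by
    obtain ⟨s, hs⟩ := Submodule.mem_span_singleton.1 h
    have hs0 : s ≠ 0 := fun h0 => hv0 (by rw [← hs, h0, zero_smul])
    refine hne (1 + s⁻¹) ?_
    rw [add_smul, one_smul, ← sub_eq_iff_eq_add', ← hw]
    conv_rhs => rw [← hs]
    rw [smul_smul, inv_mul_cancel₀ hs0, one_smul]
  obtain ⟨f, hfv, hfw⟩ := exists_functional hvw
  obtain ⟨φ, hφ⟩ : ∃ φ : V →ₗ[K] K, φ = (f v)⁻¹ • f := ⟨_, rfl⟩
  have hφv : φ v = 1 := by rw [hφ, LinearMap.smul_apply, smul_eq_mul, inv_mul_cancel₀ hfv]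
  have hφw : φ w = 0 := by
    rw [hφ, LinearMap.smul_apply, hfw w (Submodule.mem_span_singleton_self w), smul_zero]
  have hker : LinearMap.ker φ = K ∙ w := by
    refine (Submodule.eq_of_le_of_finrank_le ((Submodule.span_singleton_le_iff_mem _ _).2 hφw) ?_).symm
    have h1 := φ.finrank_range_add_finrank_ker
    have : LinearMap.range φ = ⊤ := LinearMap.range_eq_top.2 (LinearMap.surjective_iff_ne_zero.2 fun h0 => by
      rw [h0, LinearMap.zero_apply] at hφv; exact zero_ne_one hφv)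
    rw [this, finrank_top, Module.finrank_self] at h1
    rw [finrank_span_singleton hw0]
    omega
  have hAv : φ (A v) = 1 := by
    rw [show A v = v + w by rw [hw]; abel, map_add, hφv, hφw, add_zero]
  refine ⟨v, φ, hAv, hφv, fun h0 => ?_, hrv, hw0, w, hφw, fun h0 => ?_⟩
  · obtain ⟨s, hs⟩ := Submodule.mem_span_singleton.1 (hker ▸ LinearMap.mem_ker.2 h0)
    have hs0 : s ≠ 0 := fun h0 => hc (by rw [← hs, h0, zero_smul])
    exact hgv (hh3' v (Submodule.mem_span_singleton.2 ⟨s⁻¹, by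
      rw [← hs, smul_smul, inv_mul_cancel₀ hs0, one_smul, hDap]⟩))
  · obtain ⟨γ, hγ⟩ := Submodule.mem_span_singleton.1 (hker ▸ LinearMap.mem_ker.2 h0)
    have hS : sch A φ v hAv = γ • 1 := by
      refine LinearMap.ext fun x => Subtype.ext ?_
      obtain ⟨t, ht⟩ := Submodule.mem_span_singleton.1 (show (x : V) ∈ K ∙ w by rw [← hker]; exact x.2)
      rw [coe_sch, LinearMap.smul_apply, Module.End.one_apply, Submodule.coe_smul, ← ht, map_smul, map_smul, h0,
        smul_zero, zero_smul, sub_zero, ← hγ, smul_comm]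
    have hd := det_sch A φ v hφv hAv
    rw [hS, hdet, LinearMap.det_smul, map_one, mul_one, hker, finrank_span_singleton hw0, pow_one] at hd
    have : w ∈ LinearMap.ker (A - 1) := by
      rw [LinearMap.mem_ker, hDap, ← hγ, hd, one_smul, sub_self]
    rw [hinj] at this
    exact hw0 ((Submodule.mem_bot K).1 this)

theorem factor (T : Finset K) (hT : 4 ≤ T.card) (hT5 : (2 : K) = 0 ∨ ∃ T5 : Finset K, 5 ≤ T5.card) (k : ℕ) :
    ∀ {V : Type v} [AddCommGroup V] [Module K V] [FiniteDimensional K V] (A : Module.End K V),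
      finrank K V = k + 1 → LinearMap.det A = 1 →
      (1 ≤ k → (¬ ∃ a : K, A = a • 1) ∧ 2 ≤ finrank K (LinearMap.range (A - 1))) →
      ∀ c : V, c ≠ 0 → ∀ r : V →ₗ[K] K, r ≠ 0 →
      ∃ (bb : Basis (Fin (k + 1)) K V) (L U : Matrix (Fin (k + 1)) (Fin (k + 1)) K),
        LinearMap.toMatrix bb bb A = L * U ∧ LowReg L ∧ UpReg U ∧ bb.repr c 0 ≠ 0 ∧ r (bb 0) ≠ 0 := by
  induction k with
  | zero =>
    intro V _ _ _ A hk hdet _ c hc r hr
    obtain ⟨v, hv⟩ : ∃ v, r v ≠ 0 := by
      by_contra h; push Not at h; exact hr (LinearMap.ext h)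
    have hv0 : v ≠ 0 := fun h => hv (by rw [h, map_zero])
    let bb : Basis (Fin 1) K V := Module.basisUnique (Fin 1) hk |>.map (LinearEquiv.refl K V)
    refine ⟨bb, 1, 1, ?_, ⟨fun i j h => absurd h (by omega), fun i => Matrix.one_apply_eq i, fun i => i.elim0⟩,
      ⟨fun i j h => absurd h (by omega), fun i => Matrix.one_apply_eq i, fun i => i.elim0⟩, fun h0 => ?_, fun h0 => ?_⟩
    · rw [← LinearMap.det_toMatrix bb, Matrix.det_fin_one] at hdet
      ext i j
      rw [Fin.fin_one_eq_zero i, Fin.fin_one_eq_zero j, hdet, Matrix.one_mul, Matrix.one_apply_eq]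
    · exact hc (by rw [← bb.sum_repr c, Fin.sum_univ_one, h0, zero_smul])
    · apply hv
      rw [← bb.sum_repr v, Fin.sum_univ_one, map_smul, h0, smul_zero]
  | succ k ih =>
    intro V _ _ _ A hk hdet hA c hc r hr
    obtain ⟨hns, hrk⟩ := hA (by omega)
    obtain ⟨v, φ, h, hv1, hφc, hrv, hw, ⟨x, hx, hx'⟩, hS⟩ :
        ∃ (v : V) (φ : V →ₗ[K] K) (h : φ (A v) = 1), φ v = 1 ∧ φ c ≠ 0 ∧ r v ≠ 0 ∧ A v - v ≠ 0 ∧
          (∃ x ∈ LinearMap.ker φ, φ (A x) ≠ 0) ∧
          (1 ≤ k → (¬ ∃ a : K, sch A φ v h = a • 1) ∧ 2 ≤ finrank K (LinearMap.range (sch A φ v h - 1))) := by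
      rcases Nat.eq_zero_or_pos k with rfl | hk0
      · obtain ⟨v, φ, h, h1, h2, h3, h4, h5⟩ := step_two T hT A hk hdet hns hrk c hc r hr
        exact ⟨v, φ, h, h1, h2, h3, h4, h5, fun h' => absurd h' (by omega)⟩
      · obtain ⟨v, φ, h, h1, h2, h3, h4, h5, h6, h7⟩ := step T hT hT5 A (by omega) hdet hns hrk c hc r hr
        exact ⟨v, φ, h, h1, h2, h3, h4, h5, fun _ => ⟨h6, h7⟩⟩
    have hker : finrank K (LinearMap.ker φ) = k + 1 := by
      have h1 := φ.finrank_range_add_finrank_ker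
      have : LinearMap.range φ = ⊤ := LinearMap.range_eq_top.2 (LinearMap.surjective_iff_ne_zero.2 fun h0 => by
        rw [h0, LinearMap.zero_apply] at hv1; exact zero_ne_one hv1)
      rw [this, finrank_top, Module.finrank_self] at h1
      omega
    obtain ⟨b, L, U, hLU, hL, hU, hbc, hbr⟩ := ih (sch A φ v h) hker (by rw [det_sch A φ v hv1 h, hdet]) hS
      ⟨A v - v, by simp [h, hv1]⟩ (fun h0 => hw (congrArg Subtype.val h0))
      ((φ.comp A).comp (LinearMap.ker φ).subtype) (fun h0 => hx' (LinearMap.congr_fun h0 ⟨x, hx⟩))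
    obtain ⟨bb, hb0, hbs, hM⟩ := cons_matrix A φ v hv1 h b L U hLU
    refine ⟨bb, _, _, hM, lowReg_consL hL _ hbc, upReg_consU hU _ hbr, ?_, by rw [hb0]; exact hrv⟩
    have hco : bb.coord 0 = φ := bb.ext fun i => by
      cases i using Fin.cases with
      | zero => rw [Basis.coord_apply, Basis.repr_self, Finsupp.single_eq_same, hb0, hv1]
      | succ i =>
        rw [Basis.coord_apply, Basis.repr_self, Finsupp.single_eq_of_ne (Fin.succ_ne_zero i).symm, hbs]
        exact (LinearMap.mem_ker.1 (b i).2).symm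
    rw [← Basis.coord_apply, hco]
    exact hφc

end Cfsg.Agent.Recog.RegUni
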