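import Cfsg.Agent.Lib.Recog.RegUnipotent.Conj

/-!
Every non-scalar matrix of determinant one is a product of two conjugates of the regular unipotent block.
-/

set_option autoImplicit false

namespace Cfsg.Agent.Recog.RegUni

open Module Matrix

variable {K : Type*} [Field K] {k : ℕ}

/-- The inverse of the block plus a corner entry. -/
def cornerX (K : Type*) [Field K] (k : ℕ) : Matrix (Fin (k + 1)) (Fin (k + 1)) K :=
  Matrix.of (fun i j => if i.val ≤ j.val then (-1 : K) ^ (j.val - i.val) else 0) + Matrix.single 0 (Fin.last k) 1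

theorem jor_mul_left (C : Matrix (Fin (k + 1)) (Fin (k + 1)) K) :
    (∀ j, (jor K k * C) (Fin.last k) j = C (Fin.last k) j) ∧
      ∀ (i : Fin k) j, (jor K k * C) i.castSucc j = C i.castSucc j + C i.succ j := by
  constructor
  · intro j
    rw [Matrix.mul_apply, Finset.sum_eq_single (Fin.last k)]
    · simp [jor]
    · intro l _ hl
      have : l.val < k := by
        rcases lt_or_eq_of_le (Nat.lt_succ_iff.1 l.isLt) with h | h
        · exact h
        · exact absurd (Fin.ext h) hl
      have h1 : k ≠ l.val := by omega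
      have h2 : l.val ≠ k + 1 := by omega
      simp [jor, Fin.ext_iff, h1, h2]
    · simp
  · intro i j
    have hne : i.castSucc ≠ i.succ := fun h => by simp [Fin.ext_iff] at h
    rw [Matrix.mul_apply, Fintype.sum_eq_add i.castSucc i.succ hne]
    · simp [jor, Fin.ext_iff]
    · rintro l ⟨h1, h2⟩
      have h1' : i.val ≠ l.val := fun h => h1 (Fin.ext h.symm)
      have h2' : l.val ≠ i.val + 1 := fun h => h2 (Fin.ext (by rw [Fin.val_succ]; exact h))
      simp [jor, Fin.ext_iff, h1', h2']

theorem jor_mul_cornerX (hk : 1 ≤ k) :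
    jor K k * cornerX K k = 1 + Matrix.single 0 (Fin.last k) 1 := by
  rw [cornerX, Matrix.mul_add]
  congr 1
  · ext i j
    refine Fin.lastCases ?_ (fun i => ?_) i
    · rw [(jor_mul_left _).1, Matrix.of_apply]
      by_cases h : Fin.last k = j
      · subst h; simp
      · have : j.val < k := by
          rcases lt_or_eq_of_le (Nat.lt_succ_iff.1 j.isLt) with h' | h'
          · exact h'
          · exact absurd (Fin.ext h'.symm) h
        rw [if_neg (by simp; omega), Matrix.one_apply_ne h]
    · rw [(jor_mul_left _).2, Matrix.of_apply, Matrix.of_apply]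
      simp only [Fin.val_castSucc, Fin.val_succ]
      by_cases h : i.castSucc = j
      · subst h
        simp
      · have h' : i.val ≠ j.val := fun e => h (Fin.ext e)
        rw [Matrix.one_apply_ne h]
        rcases lt_or_gt_of_ne h' with h'' | h''
        · rw [if_pos h''.le, if_pos (show i.val + 1 ≤ j.val by omega), show j.val - i.val = (j.val - (i.val + 1)) + 1 by omega, pow_succ]
          ring
        · rw [if_neg (by omega), if_neg (by omega), add_zero]
  · ext i j
    by_cases hj : j = Fin.last k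
    · subst hj
      rw [Matrix.mul_single_apply_same, mul_one]
      by_cases hi : i = 0
      · subst hi; simp [jor]
      · have : i.val ≠ 0 := fun h => hi (Fin.ext h)
        rw [Matrix.single_apply_of_row_ne (Ne.symm hi)]
        simp [jor, Fin.ext_iff, this]
    · rw [Matrix.mul_single_apply_of_ne _ _ _ _ _ hj, Matrix.single_apply_of_col_ne _ _ (Ne.symm hj)]

theorem upReg_cornerX (hk : 2 ≤ k) : UpReg (cornerX K k) := by
  refine ⟨fun i j h => ?_, fun i => ?_, fun i => ?_⟩
  · have h' : j.val < i.val := h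
    have hi : (0 : Fin (k + 1)) ≠ i := fun e => by rw [← e] at h'; simp at h'
    simp [cornerX, Matrix.single_apply_of_row_ne hi, h]
  · rcases eq_or_ne i 0 with rfl | hi
    · have : Fin.last k ≠ 0 := fun e => by simp [Fin.ext_iff] at e; omega
      simp [cornerX, Matrix.single_apply_of_col_ne _ _ this]
    · simp [cornerX, Matrix.single_apply_of_row_ne hi.symm]
  · have : ¬ ((0 : Fin (k + 1)) = i.castSucc ∧ Fin.last k = i.succ) := fun e => by
      obtain ⟨e1, e2⟩ := e
      have h1 := congrArg Fin.val e1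
      have h2 := congrArg Fin.val e2
      simp only [Fin.val_zero, Fin.val_castSucc, Fin.val_last, Fin.val_succ] at h1 h2
      omega
    simp [cornerX, this, (Fin.castSucc_lt_succ (i := i)).le]

/-- The transvection case. -/
theorem transvection_case (g : Module.End K (Fin (k + 1) → K)) (hk : 1 ≤ k) (hdet : LinearMap.det g = 1)
    (hne : g ≠ 1) (hrk : finrank K (LinearMap.range (g - 1)) ≤ 1) :
    ∃ bb : Basis (Fin (k + 1)) K (Fin (k + 1) → K),
      LinearMap.toMatrix bb bb g = 1 + Matrix.single 0 (Fin.last k) 1 := by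
  classical
  obtain ⟨k, rfl⟩ : ∃ m, k = m + 1 := ⟨k - 1, by omega⟩
  set V := Fin (k + 1 + 1) → K
  set D := g - 1 with hD
  have hD0 : D ≠ 0 := fun h => hne (sub_eq_zero.1 h)
  obtain ⟨z0, hz0⟩ : ∃ z, D z ≠ 0 := by
    by_contra h; push Not at h; exact hD0 (LinearMap.ext h)
  obtain ⟨a, ha⟩ : ∃ a, a = D z0 := ⟨_, rfl⟩
  have ha0 : a ≠ 0 := ha ▸ hz0
  have hrange : LinearMap.range D = K ∙ a := (Submodule.eq_of_le_of_finrank_le
    ((Submodule.span_singleton_le_iff_mem _ _).2 (ha ▸ LinearMap.mem_range_self D z0))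
    (by rw [finrank_span_singleton ha0]; omega)).symm
  -- the functional
  obtain ⟨f, hf⟩ : ∃ f : V →ₗ[K] K, ∀ x, D x = f x • a := by
    have hmem : ∀ x, D x ∈ K ∙ a := fun x => hrange ▸ LinearMap.mem_range_self D x
    refine ⟨(LinearEquiv.toSpanNonzeroSingleton K V a ha0).symm.toLinearMap.comp (D.codRestrict _ hmem), fun x => ?_⟩
    exact (LinearEquiv.toSpanNonzeroSingleton_symm_apply_smul K V a ha0 ⟨D x, hmem x⟩).symm
  obtain ⟨z, hz⟩ : ∃ z, f z = 1 := by
    refine ⟨(f z0)⁻¹ • z0, ?_⟩
    rw [map_smul, smul_eq_mul, inv_mul_cancel₀ (fun h => hz0 (by rw [hf, h, zero_smul]))]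
  have hgx : ∀ x, g x = x + f x • a := fun x => by
    rw [← hf, hD, LinearMap.sub_apply, Module.End.one_apply]; abel
  have hfk : finrank K (LinearMap.ker f) = k + 1 := by
    have h1 := f.finrank_range_add_finrank_ker
    have : LinearMap.range f = ⊤ := LinearMap.range_eq_top.2 (LinearMap.surjective_iff_ne_zero.2 fun h0 => by
      rw [h0, LinearMap.zero_apply] at hz; exact zero_ne_one hz)
    rw [this, finrank_top, Module.finrank_self, Module.finrank_fin_fun] at h1
    omega
  -- first basis
  let b := Module.finBasisOfFinrankEq K (LinearMap.ker f) hfk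
  let b' : Basis (Fin (k + 1 + 1)) K V := Basis.mkFinCons z b (fun s x hx hs => by
      have := congrArg f hs
      rwa [map_add, map_smul, hz, LinearMap.mem_ker.1 hx, map_zero, smul_eq_mul, mul_one, add_zero] at this)
    (fun y => ⟨-f y, by simp [hz]⟩)
  have hb' : ⇑b' = Fin.cons z ((↑) ∘ ⇑b) := Basis.coe_mkFinCons z b _ _
  -- `f` kills the centre
  have hfa : f a = 0 := by
    have hM : LinearMap.toMatrix b' b' g =
        1 + Matrix.of fun i j => if j = 0 then b'.repr a i else 0 := by
      ext i j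
      rw [LinearMap.toMatrix_apply, hgx, map_add, map_smul, Finsupp.add_apply, Finsupp.smul_apply, Basis.repr_self,
        Matrix.add_apply, Matrix.of_apply, smul_eq_mul]
      congr 1
      · rw [Finsupp.single_apply, Matrix.one_apply]
        exact if_congr eq_comm rfl rfl
      · rw [hb']
        refine Fin.cases ?_ (fun j => ?_) j
        · rw [Fin.cons_zero, hz, one_mul, if_pos rfl]
        · rw [Fin.cons_succ, Function.comp_apply, LinearMap.mem_ker.1 (b j).2, zero_mul, if_neg (Fin.succ_ne_zero j)]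
    rw [← LinearMap.det_toMatrix b', hM, Matrix.det_of_isLowerTriangular] at hdet
    · rw [Fin.prod_univ_succ] at hdet
      simp only [Matrix.add_apply, Matrix.one_apply_eq, Matrix.of_apply, if_pos, Fin.succ_ne_zero, if_false, add_zero,
        Finset.prod_const_one, mul_one, add_eq_left] at hdet
      have := congrArg f (b'.sum_repr a)
      rw [map_sum, Fin.sum_univ_succ, hdet, zero_smul, map_zero, zero_add] at this
      rw [← this]
      refine Finset.sum_eq_zero fun i _ => ?_
      rw [map_smul, hb', Fin.cons_succ, Function.comp_apply, LinearMap.mem_ker.1 (b i).2, smul_zero]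
    · intro i j hij
      have hij' : i < j := hij
      have hj : j ≠ 0 := fun h => by subst h; exact Fin.not_lt_zero i hij'
      simp [Matrix.one_apply_ne hij'.ne, hj]
  -- second basis
  have haK : (⟨a, hfa⟩ : LinearMap.ker f) ∉ (⊥ : Submodule K (LinearMap.ker f)) := fun h =>
    ha0 (congrArg Subtype.val ((Submodule.mem_bot K).1 h))
  obtain ⟨ψ0, hψ0, -⟩ := exists_functional haK
  obtain ⟨ψ, hψ⟩ : ∃ ψ : LinearMap.ker f →ₗ[K] K, ψ = (ψ0 ⟨a, hfa⟩)⁻¹ • ψ0 := ⟨_, rfl⟩
  have hψa : ψ ⟨a, hfa⟩ = 1 := by rw [hψ, LinearMap.smul_apply, smul_eq_mul, inv_mul_cancel₀ hψ0]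
  haveI : Module.Free K (LinearMap.ker ψ) := Module.Free.of_divisionRing K ↥(LinearMap.ker ψ)
  have hψk : finrank K (LinearMap.ker ψ) = k := by
    have h1 := ψ.finrank_range_add_finrank_ker
    have : LinearMap.range ψ = ⊤ := LinearMap.range_eq_top.2 (LinearMap.surjective_iff_ne_zero.2 fun h0 => by
      rw [h0, LinearMap.zero_apply] at hψa; exact zero_ne_one hψa)
    rw [this, finrank_top, Module.finrank_self] at h1
    omega
  let c := Module.finBasisOfFinrankEq K (LinearMap.ker ψ) hψk
  let c1 : Basis (Fin (k + 1)) K (LinearMap.ker f) := Basis.mkFinCons ⟨a, hfa⟩ c (fun s x hx hs => by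
      have := congrArg ψ hs
      rwa [map_add, map_smul, hψa, LinearMap.mem_ker.1 hx, map_zero, smul_eq_mul, mul_one, add_zero] at this)
    (fun y => ⟨-ψ y, by simp [hψa]⟩)
  let c2 : Basis (Fin (k + 1 + 1)) K V := Basis.mkFinCons z c1 (fun s x hx hs => by
      have := congrArg f hs
      rwa [map_add, map_smul, hz, LinearMap.mem_ker.1 hx, map_zero, smul_eq_mul, mul_one, add_zero] at this)
    (fun y => ⟨-f y, by simp [hz]⟩)
  have hc2 : ⇑c2 = Fin.cons z ((↑) ∘ ⇑c1) := Basis.coe_mkFinCons z c1 _ _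
  have hc20 : c2 0 = z := by rw [hc2, Fin.cons_zero]
  have hc21 : c2 1 = a := by
    rw [hc2, ← Fin.succ_zero_eq_one, Fin.cons_succ, Function.comp_apply, Basis.coe_mkFinCons, Fin.cons_zero]
  have hc2f : ∀ i, i ≠ 0 → f (c2 i) = 0 := by
    intro i hi
    obtain ⟨i, rfl⟩ := Fin.exists_succ_eq.2 hi
    rw [hc2, Fin.cons_succ]
    exact LinearMap.mem_ker.1 (c1 i).2
  -- reindex
  let s : Equiv.Perm (Fin (k + 1 + 1)) := Equiv.swap 0 1 * Equiv.swap 1 (Fin.last (k + 1))
  have h10 : (1 : Fin (k + 1 + 1)) ≠ 0 := fun h => by simp [Fin.ext_iff] at h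
  have hl0 : Fin.last (k + 1) ≠ (0 : Fin (k + 1 + 1)) := fun h => by simp [Fin.ext_iff] at h
  have hs0 : s 0 = 1 := by
    simp only [s, Equiv.Perm.mul_apply]
    rw [Equiv.swap_apply_of_ne_of_ne h10.symm hl0.symm, Equiv.swap_apply_left]
  have hsl : s (Fin.last (k + 1)) = 0 := by
    simp only [s, Equiv.Perm.mul_apply]
    rw [Equiv.swap_apply_right, Equiv.swap_apply_right]
  refine ⟨c2.reindex s.symm, ?_⟩
  have hbb : ∀ i, c2.reindex s.symm i = c2 (s i) := fun i => by rw [Basis.reindex_apply, Equiv.symm_symm]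
  ext i j
  rw [LinearMap.toMatrix_apply, hgx, map_add, map_smul, Finsupp.add_apply, Finsupp.smul_apply, Basis.repr_self,
    Matrix.add_apply, smul_eq_mul, hbb]
  congr 1
  · rw [Finsupp.single_apply, Matrix.one_apply]
    exact if_congr eq_comm rfl rfl
  · by_cases hj : j = Fin.last (k + 1)
    · subst hj
      rw [hsl, hc20, hz, one_mul, show a = c2.reindex s.symm 0 by rw [hbb, hs0, hc21], Basis.repr_self,
        Finsupp.single_apply, Matrix.single_apply]
      simp
    · rw [hc2f _ (fun h => hj (s.injective (h.trans hsl.symm))), zero_mul,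
        Matrix.single_apply_of_col_ne _ _ (Ne.symm hj)]

theorem product_two (hK : 4 ≤ Cardinal.mk K) (hk : 2 ≤ k) (g : Matrix (Fin (k + 1)) (Fin (k + 1)) K)
    (hg : ¬ ∃ c : K, g = c • 1) (hdet : g.det = 1) :
    ∃ x y : GL (Fin (k + 1)) K, g = ((x : Matrix _ _ K) * jor K k * (↑(x⁻¹) : Matrix _ _ K)) *
      ((y : Matrix _ _ K) * jor K k * (↑(y⁻¹) : Matrix _ _ K)) := by
  classical
  obtain ⟨T, hT⟩ : ∃ T : Finset K, 4 ≤ T.card := by
    rcases finite_or_infinite K with h | h
    · haveI := Fintype.ofFinite K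
      rw [Cardinal.mk_fintype] at hK
      exact ⟨Finset.univ, by rw [Finset.card_univ]; exact_mod_cast hK⟩
    · obtain ⟨T, hT⟩ := Infinite.exists_subset_card_eq K 4
      exact ⟨T, hT.ge⟩
  have hT5 : (2 : K) = 0 ∨ ∃ T5 : Finset K, 5 ≤ T5.card := by
    rcases eq_or_ne (2 : K) 0 with h | h
    · exact Or.inl h
    refine Or.inr ?_
    rcases finite_or_infinite K with hf | hf
    · haveI := Fintype.ofFinite K
      rw [Cardinal.mk_fintype] at hK
      have h4 : 4 ≤ Fintype.card K := by exact_mod_cast hK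
      have hodd := FiniteField.odd_card_of_char_ne_two (F := K) (fun h2 => h (by
        have := ringChar.Nat.cast_ringChar (R := K)
        rw [h2] at this
        exact_mod_cast this))
      refine ⟨Finset.univ, ?_⟩
      rw [Finset.card_univ]
      omega
    · obtain ⟨T, hT⟩ := Infinite.exists_subset_card_eq K 5
      exact ⟨T, hT.ge⟩
  have hdet' : LinearMap.det (Matrix.toLin' g) = 1 := by rw [LinearMap.det_toLin', hdet]
  have hns : ¬ ∃ a : K, Matrix.toLin' g = a • 1 := by
    rintro ⟨a, ha⟩
    refine hg ⟨a, Matrix.toLin'.injective ?_⟩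
    rw [ha, map_smul, Matrix.toLin'_one]; rfl
  by_cases hrk : 2 ≤ finrank K (LinearMap.range (Matrix.toLin' g - 1))
  · obtain ⟨bb, L, U, hLU, hL, hU, -, -⟩ := factor T hT hT5 k (Matrix.toLin' g) (Module.finrank_fin_fun K) hdet'
      (fun _ => ⟨hns, hrk⟩) (Pi.single 0 (1 : K) : Fin (k + 1) → K) (fun h => by simpa using congrFun h 0)
      (LinearMap.proj 0) (fun h => by simpa using LinearMap.congr_fun h (Pi.single 0 (1 : K) : Fin (k + 1) → K))
    obtain ⟨P, hP, hgP⟩ := exists_change bb hLU
    obtain ⟨Q, hQ, hLQ⟩ := lower_conj hL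
    obtain ⟨R, hR, hUR⟩ := upper_conj hU
    exact two_conj hP hQ hR hgP hLQ hUR
  · obtain ⟨bb, hbb⟩ := transvection_case (Matrix.toLin' g) (by omega) hdet' (fun h => hns ⟨1, by rw [h, one_smul]⟩)
      (by omega)
    rw [← jor_mul_cornerX (by omega)] at hbb
    obtain ⟨P, hP, hgP⟩ := exists_change bb hbb
    obtain ⟨R, hR, hUR⟩ := upper_conj (upReg_cornerX (K := K) hk)
    exact two_conj hP (Q := 1) (by simp) hR hgP (by rw [Matrix.one_mul, Matrix.mul_one]) hUR

end Cfsg.Agent.Recog.RegUni
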